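import Cfsg.Agent.H334.Ore.Co3.Dat
import Cfsg.Agent.H945.Wk.Co3
import Cfsg.Agent.H777.Ore.Base

/-!
# The centraliser of an involution without fixed rows in `G3 ≅ Co₃` (helper334)

* `card_dvd` : the order of the centraliser of `val w0` divides 190080;
* `cover` : every element commuting with `val w0` is conjugate to one of 30 words.
-/

set_option autoImplicit false
set_option maxRecDepth 100000

namespace Cfsg.Agent.H334.Ore.CoThree

open Subgroup Cfsg Cfsg.Agent.Lib.PackMat Cfsg.Agent.SporRec.LeechMod3 Cfsg.Agent.SporRec.LeechChain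
  Cfsg.Agent.SporRec.Co3.MatData Cfsg.Agent.SporRec.Co3.ChainData Cfsg.Agent.SporRec.Co3.Chain
  Cfsg.Agent.SporRec.Co3.Ident Cfsg.Agent.H317.RO.Co3Data Cfsg.Agent.H970.Ore.Base6 Cfsg.Agent.H970.Ore.Tab

/-! ### the involution -/

theorem lok_w0 : lok w0 = true := by decide +kernel

theorem w0_sq' : chkW (w0 ++ w0) [] = true := by decide +kernel

theorem w0_sq : val w0 * val w0 = 1 := by
  rw [← val_append, val_eq w0_sq', val_nil]

theorem nofix' : allBelow (fun i => !(Nat.beq (row (H970.Ore.Tab.run w0 i)) (row i))) 552 = true := by decide +kernel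

theorem nofix {i : ℕ} (hi : i < 552) : act (rv (row i)) (val w0 : Co0) ≠ rv (row i) := by
  intro h
  obtain ⟨h1, h2⟩ := pt_val lok_w0 i hi
  rw [h2] at h
  have h3 := row_inj h1 hi h
  have h4 := allBelow_spec nofix' i hi
  rw [h3, Nat.beq_refl] at h4
  exact absurd h4 (by decide)

theorem fixZ' : (Nat.beq (H970.Ore.Tab.run [0, 0] 0) 0 && Nat.blt 0 552) = true := by decide +kernel

theorem val_Z : val [0, 0] = Z := by
  rw [val_cons, val_cons, val_nil, mul_one]
  rfl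

theorem w0_ne : val w0 ≠ 1 := by
  intro h
  apply nofix (i := 0) (by norm_num)
  rw [h]
  exact act_one _

/-- the rows -/
def InO (v : Fin 24 → ZMod 3) : Prop := ∃ i < 552, v = rv (row i)

theorem InO.el {v : Fin 24 → ZMod 3} (h : InO v) {k : ℕ} (hk : k < 8) : InO (act v (el k)) := by
  obtain ⟨i, hi, rfl⟩ := h
  obtain ⟨h1, h2⟩ := gen_spec hi hk
  exact ⟨_, h1, h2⟩

theorem InO.act (g : G3) : ∀ {v : Fin 24 → ZMod 3}, InO v → InO (Cfsg.Agent.SporRec.LeechMod3.act v (g : Co0)) := by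
  have hg : g ∈ Subgroup.closure (Set.range A ∪ {W0}) := by rw [closure_top]; exact mem_top _
  induction hg using Subgroup.closure_induction with
  | mem x hx =>
    intro v hv
    rcases hx with ⟨i, rfl⟩ | hx
    · exact hv.el (k := i) (by omega)
    · rw [Set.mem_singleton_iff] at hx
      subst hx
      exact hv.el (k := 7) (by norm_num)
  | one =>
    intro v hv
    rw [Subgroup.coe_one, act_one]
    exact hv
  | mul x y _ _ hx hy =>
    intro v hv
    rw [Subgroup.coe_mul, act_mul]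
    exact hy (hx hv)
  | inv x _ hx =>
    intro v hv
    have h1 : ∀ n : ℕ, ∀ {v}, InO v → InO (Cfsg.Agent.SporRec.LeechMod3.act v ((x ^ n : G3) : Co0)) := by
      intro n
      induction n with
      | zero => intro v hv; rw [pow_zero, Subgroup.coe_one, act_one]; exact hv
      | succ n ih => intro v hv; rw [pow_succ, Subgroup.coe_mul, act_mul]; exact hx (ih hv)
    have h2 : x⁻¹ = x ^ (orderOf x - 1) := by
      have h3 : 0 < orderOf x := orderOf_pos x
      rw [inv_eq_iff_mul_eq_one, ← pow_succ', Nat.sub_add_cancel h3, pow_orderOf_eq_one]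
    rw [h2]
    exact h1 _ hv

theorem not_Z {g : G3} (h : g⁻¹ * val w0 * g = Z) : False := by
  have h3 := fixZ'
  rw [Bool.and_eq_true, Nat.blt_eq] at h3
  obtain ⟨h4, h5⟩ := pt_val (u := [0, 0]) (by decide) 0 h3.2
  rw [Nat.eq_of_beq_eq_true h3.1, val_Z, ← h] at h5
  obtain ⟨j, hj, hj'⟩ := InO.act g⁻¹ (v := rv (row 0)) ⟨_, h3.2, rfl⟩
  apply nofix hj
  rw [← hj', ← act_mul]
  conv_rhs => rw [← h5]
  rw [← act_mul]
  congr 1
  push_cast
  group

theorem orderOf_w0 : orderOf (val w0) = 2 := by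
  have := Fact.mk Nat.prime_two
  exact orderOf_eq_prime (by rw [pow_two, w0_sq]) w0_ne

theorem card_dvd : Nat.card ↥(centralizer ({val w0} : Set G3)) ∣ 190080 := by
  obtain ⟨w, hw1, hBB, hcl⟩ := H945.Wk.Co3.exists_BB
  obtain ⟨g, h | h⟩ := hcl _ orderOf_w0
  · exact (not_Z h).elim
  · have h3 := H945.Wk.Co3.card_cent_conj g⁻¹ (val w0)
    rw [inv_inv, h] at h3
    rw [← h3]
    exact hBB.card_dvd

/-- **the involutions of `G3`** -/
theorem inv_cases {t : G3} (ht : orderOf t = 2) : ∃ g : G3, g⁻¹ * t * g = Z ∨ g⁻¹ * t * g = val w0 := by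
  obtain ⟨w, hw1, hBB, hcl⟩ := H945.Wk.Co3.exists_BB
  obtain ⟨g, h | h⟩ := hcl _ ht
  · exact ⟨g, Or.inl h⟩
  · obtain ⟨k, h' | h'⟩ := hcl _ orderOf_w0
    · exact (not_Z h').elim
    · refine ⟨g * k⁻¹, Or.inr ?_⟩
      rw [← h'] at h
      calc (g * k⁻¹)⁻¹ * t * (g * k⁻¹) = k * (g⁻¹ * t * g) * k⁻¹ := by group
        _ = val w0 := by rw [h]; group

/-! ### the action on twelve rows -/

theorem pps_ok' : ((List.range 12).all fun t => Nat.blt (pp t) 552 && !(Nat.beq (row (pp t)) (row (H970.Ore.Tab.run w0 (pp 0)))) &&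
    (List.range 12).all fun s => Nat.beq s t || !(Nat.beq (row (pp s)) (row (pp t)))) = true := by decide +kernel

theorem pps_ok {t : ℕ} (ht : t < 12) : pp t < 552 ∧ row (pp t) ≠ row (H970.Ore.Tab.run w0 (pp 0)) ∧
    ∀ s < 12, row (pp s) = row (pp t) → s = t := by
  have h := List.all_eq_true.1 pps_ok' t (List.mem_range.2 ht)
  rw [Bool.and_eq_true, Bool.and_eq_true, Nat.blt_eq] at h
  refine ⟨h.1.1, ?_, ?_⟩
  · intro h1
    have h2 := h.1.2
    rw [h1, Nat.beq_refl] at h2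
    exact absurd h2 (by decide)
  · intro s hs h1
    have h2 := List.all_eq_true.1 h.2 s (List.mem_range.2 hs)
    rw [h1, Nat.beq_refl, Bool.or_eq_true] at h2
    rcases h2 with h2 | h2
    · exact Nat.eq_of_beq_eq_true h2
    · exact absurd h2 (by decide)

/-- `g` permutes the twelve rows by `f` -/
def P12 (g : G3) (f : ℕ → ℕ) : Prop := ∀ t < 12, f t < 12 ∧ act (rv (row (pp t))) (g : Co0) = rv (row (pp (f t)))

theorem P12.one : P12 1 fun t => t := fun _ ht => ⟨ht, act_one _⟩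

theorem P12.mul {g h : G3} {f f' : ℕ → ℕ} (h1 : P12 g f) (h2 : P12 h f') : P12 (g * h) fun t => f' (f t) := by
  intro t ht
  obtain ⟨a, b⟩ := h1 t ht
  obtain ⟨c, d⟩ := h2 _ a
  refine ⟨c, ?_⟩
  rw [Subgroup.coe_mul, act_mul, b, d]

theorem P12.congr {g : G3} {f f' : ℕ → ℕ} (h : P12 g f) (he : ∀ t < 12, f' t = f t) : P12 g f' := by
  intro t ht
  rw [he t ht]
  exact h t ht

theorem P12.of_val {u : List ℕ} {f : ℕ → ℕ} (hu : lok u = true) (hf : ∀ t < 12, f t < 12 ∧ H970.Ore.Tab.run u (pp t) = pp (f t)) :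
    P12 (val u) f := by
  intro t ht
  refine ⟨(hf t ht).1, ?_⟩
  rw [(pt_val hu _ (pps_ok ht).1).2, (hf t ht).2]

/-- the subgroup `M₁₂` -/
noncomputable def M : Subgroup G3 := closure {g | ∃ k < 3, g = val (gw.getD k [])}

/-- the centraliser -/
def K : Subgroup G3 := centralizer {val w0}

theorem mem_K {g : G3} : g ∈ K ↔ g * val w0 = val w0 * g := by
  unfold K
  rw [mem_centralizer_singleton_iff]

theorem gens' : ((List.range 3).all fun k => (List.range 12).all (fun t => Nat.blt (lD k t) 12 &&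
    Nat.beq (H970.Ore.Tab.run (gw.getD k []) (pp t)) (pp (lD k t))) && chkW (gw.getD k [] ++ gw.getD k []) [] &&
    chkW (gw.getD k [] ++ w0) (w0 ++ gw.getD k []) && lok (gw.getD k [])) = true := by decide +kernel

theorem gens {k : ℕ} (hk : k < 3) : P12 (val (gw.getD k [])) (lD k) ∧ val (gw.getD k []) * val (gw.getD k []) = 1 ∧
    val (gw.getD k []) ∈ K := by
  have h := List.all_eq_true.1 gens' k (List.mem_range.2 hk)
  rw [Bool.and_eq_true, Bool.and_eq_true, Bool.and_eq_true] at h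
  obtain ⟨⟨⟨h1, h2⟩, h3⟩, h4⟩ := h
  refine ⟨P12.of_val h4 ?_, ?_, ?_⟩
  · intro t ht
    have h5 := List.all_eq_true.1 h1 t (List.mem_range.2 ht)
    rw [Bool.and_eq_true, Nat.blt_eq] at h5
    exact ⟨h5.1, Nat.eq_of_beq_eq_true h5.2⟩
  · rw [← val_append, val_eq h2, val_nil]
  · rw [mem_K, ← val_append, val_eq h3, val_append]

theorem gen_mem {k : ℕ} (hk : k < 3) : val (gw.getD k []) ∈ M := subset_closure ⟨k, hk, rfl⟩

theorem M_le : M ≤ K := by
  unfold M
  rw [closure_le]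
  rintro _ ⟨k, hk, rfl⟩
  exact (gens hk).2.2

theorem M_ind {p : G3 → Prop} (h1 : p 1) (hm : ∀ g k, k < 3 → p g → p (g * val (gw.getD k []))) : ∀ g ∈ M, p g := by
  intro g hg
  refine closure_induction_right (p := fun x _ => p x) h1 ?_ ?_ hg
  · rintro x _ _ ⟨k, hk, rfl⟩ hx
    exact hm x k hk hx
  · rintro x _ _ ⟨k, hk, rfl⟩ hx
    rw [inv_eq_of_mul_eq_one_right (gens hk).2.1]
    exact hm x k hk hx

theorem M_P12 : ∀ g ∈ M, ∃ f, P12 g f :=
  M_ind ⟨_, P12.one⟩ fun _ _ hk ⟨_, hf⟩ => ⟨_, hf.mul (gens hk).1⟩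

theorem w0_mem_K : val w0 ∈ K := mem_K.2 rfl

theorem act_w0 : act (rv (row (pp 0))) (val w0 : Co0) = rv (row (H970.Ore.Tab.run w0 (pp 0))) ∧ H970.Ore.Tab.run w0 (pp 0) < 552 := by
  obtain ⟨h1, h2⟩ := pt_val lok_w0 (pp 0) (pps_ok (t := 0) (by norm_num)).1
  exact ⟨h2, h1⟩

theorem row_ne {t : ℕ} (ht : t < 12) : rv (row (pp t)) ≠ rv (row (H970.Ore.Tab.run w0 (pp 0))) := fun h =>
  (pps_ok ht).2.1 (row_inj (pps_ok ht).1 act_w0.2 h)

theorem w0_not_mem : val w0 ∉ M := by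
  intro h
  obtain ⟨f, hf⟩ := M_P12 _ h
  obtain ⟨h1, h2⟩ := hf 0 (by norm_num)
  rw [act_w0.1] at h2
  exact row_ne h1 h2.symm

/-! ### the involutions of `M₁₂` -/

theorem tree' : ((List.range 396).all fun i => Nat.blt i 3 ||
    (let e := Nat.mod (Nat.shiftRight tT (11 * i)) 2048
     let k := Nat.mod e 4
     let j := Nat.div e 4
     Nat.blt k 3 && Nat.blt j i && (List.range 12).all fun t => Nat.beq (lD i t) (lD k (lD j (lD k t))))) = true := by
  decide +kernel

theorem exD : ∀ n i, i < n → i < 396 → ∃ x ∈ M, P12 x (lD i) := by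
  intro n
  induction n with
  | zero => intro i hi; exact absurd hi (Nat.not_lt_zero _)
  | succ n ih =>
    intro i hn hi
    have h := List.all_eq_true.1 tree' i (List.mem_range.2 hi)
    rw [Bool.or_eq_true, Nat.blt_eq] at h
    rcases h with h | h
    · exact ⟨_, gen_mem h, (gens h).1⟩
    · dsimp only at h
      rw [Bool.and_eq_true, Bool.and_eq_true, Nat.blt_eq, Nat.blt_eq] at h
      obtain ⟨⟨h1, h2⟩, h3⟩ := h
      obtain ⟨x, hx, hp⟩ := ih _ (lt_of_lt_of_le h2 (Nat.lt_succ_iff.1 hn)) (h2.trans hi)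
      refine ⟨_, M.mul_mem (M.mul_mem (gen_mem h1) hx) (gen_mem h1), (((gens h1).1.mul hp).mul (gens h1).1).congr ?_⟩
      intro t ht
      exact Nat.eq_of_beq_eq_true (List.all_eq_true.1 h3 t (List.mem_range.2 ht))

/-- words in the involutions -/
def run12 (u : List ℕ) (t : ℕ) : ℕ := u.foldl (fun x d => lD d x) t

theorem exW {u : List ℕ} (hu : ∀ d ∈ u, d < 396) : ∃ x ∈ M, P12 x (run12 u) := by
  induction u with
  | nil => exact ⟨1, M.one_mem, P12.one⟩
  | cons d u ih =>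
    obtain ⟨x, hx, h⟩ := ih fun e he => hu e (List.mem_cons_of_mem _ he)
    obtain ⟨y, hy, h'⟩ := exD 396 d (hu d List.mem_cons_self) (hu d List.mem_cons_self)
    exact ⟨y * x, M.mul_mem hy hx, h'.mul h⟩

/-! ### the order -/

/-- the elements fixing a row -/
def St (b : ℕ) : Subgroup G3 := (stR (row b)).comap G3.subtype

theorem mem_St {b : ℕ} {g : G3} : g ∈ St b ↔ act (rv (row b)) (g : Co0) = rv (row b) := Iff.rfl

theorem stp (H : Subgroup G3) {l n : ℕ} (hl : l + n = 12)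
    (hx : ∀ a < n, ∃ x ∈ H, act (rv (row (pp l))) (x : Co0) = rv (row (pp (l + a)))) :
    n * Nat.card ↥(H ⊓ St (pp l)) ≤ Nat.card ↥H := by
  choose! F hF1 hF2 using hx
  have hi : Function.Injective fun q : Fin n × ↥(H ⊓ St (pp l)) =>
      (⟨q.2.1 * F q.1, H.mul_mem q.2.2.1 (hF1 _ q.1.2)⟩ : ↥H) := by
    rintro ⟨a, x, hx⟩ ⟨b, y, hy⟩ h
    have h1 : x * F a = y * F b := congrArg Subtype.val h
    have h2 : ∀ c : ℕ, c < n → ∀ z ∈ St (pp l), act (rv (row (pp l))) ((z * F c : G3) : Co0) = rv (row (pp (l + c))) := by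
      intro c hc z hz
      rw [Subgroup.coe_mul, act_mul, mem_St.1 hz]
      exact hF2 c hc
    have h3 := h2 a a.2 x hx.2
    rw [h1, h2 b b.2 y hy.2] at h3
    have hb : l + (b : ℕ) < 12 := by omega
    have ha : l + (a : ℕ) < 12 := by omega
    have h4 := (pps_ok ha).2.2 _ hb (row_inj (pps_ok hb).1 (pps_ok ha).1 h3)
    have h5 : a = b := Fin.ext (by omega)
    subst h5
    have h6 : x = y := mul_right_cancel h1
    subst h6
    rfl
  have h := Nat.card_le_card_of_injective _ hi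
  rwa [Nat.card_prod, Nat.card_fin] at h

theorem chain' : ((List.range 5).all fun l => (List.range (12 - l)).all fun a =>
    (let u := ((lv.getD l []).getD a [])
     (u.all fun d => Nat.blt d 396) && (List.range l).all (fun t => Nat.beq (run12 u t) t) &&
      Nat.beq (run12 u l) (l + a))) = true := by decide +kernel

theorem chain {l a : ℕ} (hl : l < 5) (ha : a < 12 - l) : ∃ x ∈ M, (∀ t < l, act (rv (row (pp t))) (x : Co0) = rv (row (pp t))) ∧
    act (rv (row (pp l))) (x : Co0) = rv (row (pp (l + a))) := by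
  have h := List.all_eq_true.1 (List.all_eq_true.1 chain' l (List.mem_range.2 hl)) a (List.mem_range.2 ha)
  dsimp only at h
  rw [Bool.and_eq_true, Bool.and_eq_true] at h
  obtain ⟨⟨h1, h2⟩, h3⟩ := h
  obtain ⟨x, hx, hp⟩ := exW (u := (lv.getD l []).getD a []) fun d hd => by
    have := List.all_eq_true.1 h1 d hd
    rwa [Nat.blt_eq] at this
  refine ⟨x, hx, fun t ht => ?_, ?_⟩
  · rw [(hp t (by omega)).2, Nat.eq_of_beq_eq_true (List.all_eq_true.1 h2 t (List.mem_range.2 ht))]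
  · rw [(hp l (by omega)).2, Nat.eq_of_beq_eq_true h3]

/-- the chain of stabilisers -/
noncomputable def Ms : ℕ → Subgroup G3
  | 0 => M
  | l + 1 => Ms l ⊓ St (pp l)

theorem mem_Ms {l : ℕ} {g : G3} : g ∈ Ms l ↔ g ∈ M ∧ ∀ t < l, act (rv (row (pp t))) (g : Co0) = rv (row (pp t)) := by
  induction l with
  | zero => exact ⟨fun h => ⟨h, fun t ht => absurd ht (Nat.not_lt_zero _)⟩, fun h => h.1⟩
  | succ l ih =>
    constructor
    · rintro ⟨h1, h2⟩
      obtain ⟨h3, h4⟩ := ih.1 h1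
      refine ⟨h3, fun t ht => ?_⟩
      rcases Nat.lt_succ_iff_lt_or_eq.1 ht with h | rfl
      · exact h4 t h
      · exact h2
    · rintro ⟨h1, h2⟩
      exact ⟨ih.2 ⟨h1, fun t ht => h2 t (by omega)⟩, h2 l (Nat.lt_succ_self _)⟩

theorem step_Ms {l : ℕ} (hl : l < 5) : (12 - l) * Nat.card ↥(Ms (l + 1)) ≤ Nat.card ↥(Ms l) := by
  refine stp (Ms l) (l := l) (n := 12 - l) (by omega) ?_
  intro a ha
  obtain ⟨x, hx, h1, h2⟩ := chain hl ha
  exact ⟨x, mem_Ms.2 ⟨hx, h1⟩, h2⟩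

theorem index_two : M.relIndex K = 2 ∧ Nat.card ↥(Ms 5) = 1 := by
  have s0 : 12 * Nat.card ↥(Ms 1) ≤ Nat.card ↥M := step_Ms (l := 0) (by norm_num)
  have s1 : 11 * Nat.card ↥(Ms 2) ≤ Nat.card ↥(Ms 1) := step_Ms (l := 1) (by norm_num)
  have s2 : 10 * Nat.card ↥(Ms 3) ≤ Nat.card ↥(Ms 2) := step_Ms (l := 2) (by norm_num)
  have s3 : 9 * Nat.card ↥(Ms 4) ≤ Nat.card ↥(Ms 3) := step_Ms (l := 3) (by norm_num)
  have s4 : 8 * Nat.card ↥(Ms 5) ≤ Nat.card ↥(Ms 4) := step_Ms (l := 4) (by norm_num)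
  have hK : Nat.card ↥K ≤ 190080 := Nat.le_of_dvd (by norm_num) card_dvd
  have hi : Nat.card ↥M * M.relIndex K = Nat.card ↥K := by
    have h := (M.subgroupOf K).card_mul_index
    rwa [Nat.card_congr (subgroupOfEquivOfLe M_le).toEquiv] at h
  have h0 : M.relIndex K ≠ 0 := by
    intro h
    rw [h, mul_zero] at hi
    exact Nat.card_pos.ne' hi.symm
  have h1 : M.relIndex K ≠ 1 := by
    intro h
    exact w0_not_mem (relIndex_eq_one.1 h w0_mem_K)
  have hpos : 0 < Nat.card ↥(Ms 5) := Nat.card_pos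
  generalize Nat.card ↥(Ms 5) = a at *
  generalize Nat.card ↥(Ms 4) = b at *
  generalize Nat.card ↥(Ms 3) = c at *
  generalize Nat.card ↥(Ms 2) = d at *
  generalize Nat.card ↥(Ms 1) = e at *
  have hM : 95040 * a ≤ Nat.card ↥M := by omega
  generalize Nat.card ↥M = m at *
  generalize Nat.card ↥K = k at *
  generalize M.relIndex K = r at *
  have h2 : 2 ≤ r := by omega
  have h3 : m * 2 ≤ m * r := Nat.mul_le_mul_left _ h2
  have ha : a = 1 := by omega
  subst ha
  refine ⟨?_, rfl⟩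
  by_contra hr
  have h4 : m * 3 ≤ m * r := Nat.mul_le_mul_left _ (by omega)
  omega

theorem mem_or {g : G3} (hg : g ∈ K) : g ∈ M ∨ val w0 * g ∈ M := by
  have h : (M.subgroupOf K).index = 2 := index_two.1
  have h1 := mul_mem_iff_of_index_two h (a := ⟨val w0, w0_mem_K⟩) (b := ⟨g, hg⟩)
  by_cases h2 : g ∈ M
  · exact Or.inl h2
  · right
    have h3 : (⟨val w0, w0_mem_K⟩ * ⟨g, hg⟩ : ↥K) ∈ M.subgroupOf K := by
      rw [h1]
      exact ⟨fun h => absurd h w0_not_mem, fun h => absurd h h2⟩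
    exact h3

theorem act_inv_of {v w : Fin 24 → ZMod 3} {g : Co0} (h : act v g = w) : act w g⁻¹ = v := by
  rw [← h, ← act_mul, mul_inv_cancel, act_one]

theorem eq_of_five {g h : G3} (hg : g ∈ K) (hh : h ∈ K) {f f' : ℕ → ℕ} (h1 : P12 g f) (h2 : P12 h f')
    (H : ∀ t < 5, f t = f' t) : g = h := by
  have hx : g * h⁻¹ ∈ K := K.mul_mem hg (K.inv_mem hh)
  have h3 : ∀ t < 5, act (rv (row (pp t))) ((g * h⁻¹ : G3) : Co0) = rv (row (pp t)) := by
    intro t ht
    have e1 : act (rv (row (pp t))) ((g * h⁻¹ : G3) : Co0) = act (act (rv (row (pp t))) (g : Co0)) ((h⁻¹ : G3) : Co0) := by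
      rw [Subgroup.coe_mul, act_mul]
    exact e1.trans ((congrArg (fun v => act v ((h⁻¹ : G3) : Co0)) (h1 t (by omega)).2).trans
      ((congrArg (fun x => act (rv (row (pp x))) ((h⁻¹ : G3) : Co0)) (H t ht)).trans (act_inv_of (h2 t (by omega)).2)))
  rcases mem_or hx with hm | hm
  · have h4 : g * h⁻¹ ∈ Ms 5 := (mem_Ms (l := 5)).2 ⟨hm, h3⟩
    rw [Subgroup.card_eq_one.1 index_two.2, mem_bot, mul_inv_eq_one] at h4
    exact h4
  · exfalso
    obtain ⟨e, he⟩ := M_P12 _ hm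
    obtain ⟨h4, h5⟩ := he 0 (by norm_num)
    have h6 : val w0 * (g * h⁻¹) = g * h⁻¹ * val w0 := (mem_K.1 hx).symm
    have e1 : act (rv (row (pp 0))) ((g * h⁻¹ * val w0 : G3) : Co0) =
        act (act (rv (row (pp 0))) ((g * h⁻¹ : G3) : Co0)) (val w0 : Co0) := by
      rw [Subgroup.coe_mul, act_mul]
    rw [h6] at h5
    exact row_ne h4 (h5.symm.trans (e1.trans ((congrArg (fun v => act v (val w0 : Co0)) (h3 0 (by norm_num))).trans act_w0.1)))

/-! ### the cover -/

/-- the representative -/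
noncomputable def rep (j : ℕ) : G3 := val (rw'.getD j [])

theorem reps' : ((List.range 15).all fun j => (List.range 12).all (fun t => Nat.blt (lR j t) 12 &&
    Nat.beq (H970.Ore.Tab.run (rw'.getD j []) (pp t)) (pp (lR j t))) &&
    chkW (rw'.getD j [] ++ w0) (w0 ++ rw'.getD j []) && lok (rw'.getD j [])) = true := by decide +kernel

theorem rep_spec {j : ℕ} (hj : j < 15) : P12 (rep j) (lR j) ∧ rep j ∈ K := by
  have h := List.all_eq_true.1 reps' j (List.mem_range.2 hj)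
  rw [Bool.and_eq_true, Bool.and_eq_true] at h
  obtain ⟨⟨h1, h2⟩, h3⟩ := h
  refine ⟨P12.of_val h3 ?_, ?_⟩
  · intro t ht
    have h5 := List.all_eq_true.1 h1 t (List.mem_range.2 ht)
    rw [Bool.and_eq_true, Nat.blt_eq] at h5
    exact ⟨h5.1, Nat.eq_of_beq_eq_true h5.2⟩
  · unfold rep
    rw [mem_K, ← val_append, val_eq h2, val_append]

/-- the involutions -/
def DS : Set G3 := {x | x ∈ M ∧ ∃ d < 396, P12 x (lD d)}

/-- the representatives -/
def RS : Set G3 := {x | ∃ j < 15, x = rep j}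

theorem conj' : ((List.range 3).all fun k => (List.range 396).all fun i =>
    (let j := Nat.mod (Nat.shiftRight tC (9 * (396 * k + i))) 512
     Nat.blt j 396 && (List.range 12).all fun t => Nat.beq (lD j t) (lD k (lD i (lD k t))))) = true := by
  decide +kernel

theorem conj_DS {k : ℕ} (hk : k < 3) {x : G3} (hx : x ∈ DS) : val (gw.getD k []) * x * (val (gw.getD k []))⁻¹ ∈ DS := by
  obtain ⟨hM, i, hi, hp⟩ := hx
  have h := List.all_eq_true.1 (List.all_eq_true.1 conj' k (List.mem_range.2 hk)) i (List.mem_range.2 hi)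
  dsimp only at h
  rw [Bool.and_eq_true, Nat.blt_eq] at h
  rw [inv_eq_of_mul_eq_one_right (gens hk).2.1]
  refine ⟨M.mul_mem (M.mul_mem (gen_mem hk) hM) (gen_mem hk), _, h.1, (((gens hk).1.mul hp).mul (gens hk).1).congr ?_⟩
  intro t ht
  exact Nat.eq_of_beq_eq_true (List.all_eq_true.1 h.2 t (List.mem_range.2 ht))

theorem conj_DS' : ∀ g ∈ M, ∀ x ∈ DS, g * x * g⁻¹ ∈ DS := by
  refine M_ind ?_ ?_
  · intro x hx
    rwa [one_mul, inv_one, mul_one]
  · intro g k hk hg x hx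
    have h := hg _ (conj_DS hk hx)
    rwa [show g * (val (gw.getD k []) * x * (val (gw.getD k []))⁻¹) * g⁻¹ =
      g * val (gw.getD k []) * x * (g * val (gw.getD k []))⁻¹ by group] at h

theorem rows' : ((List.range 15).all fun j => (let r := tE.getD j 0
    (List.range 396).all fun d =>
    (let e := ent r d
     let k := Nat.mod e 16
     let a := Nat.mod (Nat.div e 16) 512
     let b := Nat.mod (Nat.div e 8192) 512
     let c := Nat.div e 4194304
     let u := (bif Nat.beq a 0 then [] else a.pred :: (bif Nat.beq b 0 then [] else b.pred :: (bif Nat.beq c 0 then [] else [c.pred])))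
     Nat.blt k 15 && (u.all fun d => Nat.blt d 396) &&
      (List.range 5).all fun t => Nat.beq (lD d (lR j (run12 u t))) (run12 u (lR k t))))) = true := by
  decide +kernel

theorem mul_RS {r x : G3} (hr : r ∈ RS) (hx : x ∈ DS) : ∃ c ∈ M, c * (r * x) * c⁻¹ ∈ RS := by
  obtain ⟨j, hj, rfl⟩ := hr
  obtain ⟨hM, d, hd, hp⟩ := hx
  have h := List.all_eq_true.1 (List.all_eq_true.1 rows' j (List.mem_range.2 hj)) d (List.mem_range.2 hd)
  dsimp only at h
  generalize (bif Nat.beq _ 0 then [] else _ : List ℕ) = u at h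
  generalize Nat.mod (ent (tE.getD j 0) d) 16 = k at h
  rw [Bool.and_eq_true, Bool.and_eq_true, Nat.blt_eq] at h
  obtain ⟨⟨h1, h2⟩, h3⟩ := h
  obtain ⟨c, hc, hpc⟩ := exW (u := u) fun d hd => by
    have := List.all_eq_true.1 h2 d hd
    rwa [Nat.blt_eq] at this
  refine ⟨c, hc, k, h1, ?_⟩
  rw [mul_inv_eq_iff_eq_mul]
  have hj' := rep_spec hj
  have hk' := rep_spec h1
  refine eq_of_five (K.mul_mem (M_le hc) (K.mul_mem hj'.2 (M_le hM))) (K.mul_mem hk'.2 (M_le hc))
    (hpc.mul (hj'.1.mul hp)) (hk'.1.mul hpc) ?_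
  intro t ht
  exact Nat.eq_of_beq_eq_true (List.all_eq_true.1 h3 t (List.mem_range.2 ht))

theorem rep_zero : rep 0 = 1 := rfl

theorem gen_DS {k : ℕ} (hk : k < 3) : val (gw.getD k []) ∈ DS := ⟨gen_mem hk, k, by omega, (gens hk).1⟩

/-- every element of `M₁₂` is conjugate to one of 15 words -/
theorem coverM : ∀ g ∈ M, ∃ c ∈ M, ∃ j < 15, c * g * c⁻¹ = rep j := by
  refine M_ind ⟨1, M.one_mem, 0, by norm_num, by rw [rep_zero]; group⟩ ?_
  rintro g k hk ⟨c, hc, j, hj, h⟩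
  obtain ⟨b, hb, i, hi, h'⟩ := mul_RS (r := rep j) ⟨j, hj, rfl⟩ (conj_DS' c hc _ (gen_DS hk))
  refine ⟨b * c, M.mul_mem hb hc, i, hi, ?_⟩
  rw [← h', ← h]
  group

/-- **every element commuting with `val w0` is conjugate to one of 30 words** -/
theorem cover {g : G3} (hg : g * val w0 = val w0 * g) : ∃ c : G3, ∃ j < 15, c * g * c⁻¹ = rep j ∨
    c * g * c⁻¹ = val w0 * rep j := by
  rcases mem_or (mem_K.2 hg) with h | h
  · obtain ⟨c, -, j, hj, h⟩ := coverM g h
    exact ⟨c, j, hj, Or.inl h⟩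
  · obtain ⟨c, hc, j, hj, h⟩ := coverM _ h
    refine ⟨c, j, hj, Or.inr ?_⟩
    have h1 := mem_K.1 (M_le hc)
    rw [← h]
    calc c * g * c⁻¹ = val w0 * val w0 * c * g * c⁻¹ := by rw [w0_sq, one_mul]
      _ = val w0 * (val w0 * c) * g * c⁻¹ := by group
      _ = val w0 * (c * (val w0 * g) * c⁻¹) := by rw [← h1]; group

end Cfsg.Agent.H334.Ore.CoThree
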