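import Cfsg.Agent.H334.Ore.Co3.Cov

/-!
# Row `Co₃` of S2443: the elements commuting with an involution without fixed rows (helper334)
-/

set_option autoImplicit false
set_option maxRecDepth 100000

namespace Cfsg.Agent.H334.Ore.CoThree

open Cfsg.Agent.SporRec.Co3.Chain Cfsg.Agent.H970.Ore.Tab Cfsg.Agent.H777.Ore

/-- a commutator from words -/
theorem isC_of_chk {u a b : List ℕ} (h : chkW (u ++ (b ++ a)) (a ++ b) = true) : IsC (val u) := by
  have h1 := val_eq h
  rw [val_append, val_append, val_append] at h1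
  refine ⟨val a, val b, ?_⟩
  calc val u = val u * (val b * val a) * (val a)⁻¹ * (val b)⁻¹ := by group
    _ = _ := by rw [h1]

theorem wit' : ((List.range 15).all fun j =>
    chkW (rw'.getD j [] ++ (kB.getD j [] ++ kA.getD j [])) (kA.getD j [] ++ kB.getD j []) &&
    chkW ((w0 ++ rw'.getD j []) ++ (qB.getD j [] ++ qA.getD j [])) (qA.getD j [] ++ qB.getD j [])) = true := by
  decide +kernel

theorem isC_rep {j : ℕ} (hj : j < 15) : IsC (rep j) ∧ IsC (val w0 * rep j) := by
  have h := List.all_eq_true.1 wit' j (List.mem_range.2 hj)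
  rw [Bool.and_eq_true] at h
  refine ⟨isC_of_chk h.1, ?_⟩
  have := isC_of_chk h.2
  rwa [val_append] at this

/-- **every element commuting with `val w0` is a commutator** -/
theorem isC_of_commute_w0 {g : G3} (hg : g * val w0 = val w0 * g) : IsC g := by
  obtain ⟨c, j, hj, h | h⟩ := cover hg
  · exact IsC.of_conj c (by rw [h]; exact (isC_rep hj).1)
  · exact IsC.of_conj c (by rw [h]; exact (isC_rep hj).2)

/-- every element commuting with a conjugate of `val w0` is a commutator -/
theorem isC_of_commute_conj {g t k : G3} (ht : k⁻¹ * t * k = val w0) (hg : g * t = t * g) : IsC g := by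
  refine IsC.of_conj k⁻¹ (isC_of_commute_w0 ?_)
  rw [← ht, inv_inv]
  calc k⁻¹ * g * k * (k⁻¹ * t * k) = k⁻¹ * (g * t) * k := by group
    _ = k⁻¹ * t * k * (k⁻¹ * g * k) := by rw [hg]; group

end Cfsg.Agent.H334.Ore.CoThree
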